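import Mathlib
import Cfsg.Agent.H613.KKL.Defs
import Cfsg.Agent.H645.Watanabe
import Cfsg.Agent.H658.Domin
import Cfsg.Agent.S4637
import Cfsg.Agent.S4540
import Cfsg.Agent.S4641
import Cfsg.Agent.S4658
import Cfsg.Agent.S0908
import Cfsg.Agent.H608.F5Ctrl

/-!
# S4546, task C1: 2-blocks with defect group `2^3` and all heights zero

* `rank_quot`: `U` central, `D / U` a four-group: `l(f) ∈ {1, 3}`;
* `rank_local`: the same for the block of `C_G(Q)`, `D / Q` a four-group;
* `bound`: `k(B) ≤ 2^d`, with equality only if all heights are zero, if `l(b_z) ≤ 3` for some `z`;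
* `C1`: `k(B) = 8` and `l(B) ∈ {1, 3, 5, 7}`.
-/

set_option autoImplicit false
set_option linter.unusedSectionVars false

open Cfsg

namespace Cfsg.Agent.H608.KKL

open Cfsg.Agent.Blocks.Local Cfsg.Agent.Characters
open Cfsg.Agent.H649 Cfsg.Agent.H651 Cfsg.Agent.H652.DoubleCount
open Cfsg.Agent.H645.FusCount (stab mem_stab ctrl_of_abelian)
open Cfsg.Agent.H644 (isMaximalBrauerPair_of_isDefectGroup isDefectGroup_of_isMaximalBrauerPair)
open Cfsg.Agent.H644.CentralQuot (defl blockRank_defl isPBlock_defl)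
open Cfsg.Agent.H613.KKL

universe u

section quot

/-- `D / U` is a four-group, `U` central. -/
theorem rank_quot {C : Type u} [Group C] [Finite C] {M : Ideal AlgInt} (hM : IsPModular 2 M)
    {f : Set (IrrCharacter C)} (hf : IsPBlock M f) {D : Subgroup C} (hD : IsDefectGroup 2 M f D)
    {U : Subgroup C} (hUc : U ≤ Subgroup.center C) (hUD : U ≤ D) (h4 : Nat.card D = 4 * Nat.card U)
    (h2 : ∀ d ∈ D, d * d ∈ U) : blockRank 2 f = 1 ∨ blockRank 2 f = 3 := by
  have : Fact (Nat.Prime 2) := ⟨Nat.prime_two⟩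
  have := isPrime_of_isPModular hM
  have hUn : U.Normal := ⟨fun n hn g => by
    have h1 := Subgroup.mem_center_iff.1 (hUc hn) g
    rw [h1, mul_inv_cancel_right]
    exact hn⟩
  have := Fintype.ofFinite C
  have := Fintype.ofFinite (C ⧸ U)
  have hUp : IsPGroup 2 U := (Cfsg.Agent.H641.isPGroup_of_isDefectGroup hD).to_le hUD
  have h3 := (Cfsg.Agent.H658.isDefectGroup_defl (U := U) hM hUc hUp hf hD).2
  have hb := isPBlock_defl (U := U) hM hUc hUp hf
  obtain ⟨e, he⟩ := exists_pair_of_isDefectGroup hM hb h3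
  have hind := (isBrauerPairOf_iff_isInducedBlock hM hb (Cfsg.Agent.H641.isPGroup_of_isDefectGroup h3) he.1.2).1 he
  have hc4 : Nat.card (D.map (QuotientGroup.mk' U)) = 4 := by
    rw [← Subgroup.relIndex_ker, QuotientGroup.ker_mk']
    have h5 := (U.subgroupOf D).card_mul_index
    rw [Nat.card_congr (Subgroup.subgroupOfEquivOfLe hUD).toEquiv, h4, mul_comm 4] at h5
    exact Nat.eq_of_mul_eq_mul_left Nat.card_pos h5
  have hV : IsKleinFour (D.map (QuotientGroup.mk' U)) := by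
    refine ⟨hc4, ?_⟩
    have h5 : Monoid.exponent (D.map (QuotientGroup.mk' U)) ∣ 2 := by
      rw [Monoid.exponent_dvd_iff_forall_pow_eq_one]
      rintro ⟨_, d, hd, rfl⟩
      refine Subtype.ext ?_
      show (QuotientGroup.mk' U d) ^ 2 = 1
      rw [← map_pow, pow_two]
      exact (QuotientGroup.eq_one_iff _).2 (h2 d hd)
    rcases (Nat.dvd_prime Nat.prime_two).1 h5 with h6 | h6
    · rw [Monoid.exp_eq_one_iff] at h6
      have := Finite.card_le_one_iff_subsingleton.2 h6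
      omega
    · exact h6
  have h5 := Cfsg.Agent.S4637.result M hM _ hb _ h3 hV e hind (stab (⟨_, e⟩ : BrauerPairIdx (C ⧸ U)))
    (fun g => by rw [mem_stab]; exact conjIdx_eq_iff he.1.2 g) _ rfl
  rw [blockRank_defl hM hUc hUp hf] at h5
  rcases h5.1 with h6 | h6
  · left; rw [h5.2.2, h6]
  · right; rw [h5.2.2, h6]

end quot

section pair

variable {G : Type u} [Group G] [Fintype G] {M : Ideal AlgInt} [M.IsPrime] {B : Set (IrrCharacter G)}
  {a : BrauerPairIdx G}

/-- The local pair: `U = Q` is central in `C_G(Q)`, the defect group of `f` is `D`. -/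
theorem exists_local [Fact (Nat.Prime 2)] (hM : IsPModular 2 M) (hmax : IsMaximalBrauerPair 2 M B a.1 a.2)
    (hab : ∀ x ∈ a.1, ∀ y ∈ a.1, x * y = y * x) {Q : Subgroup G}
    {f : Set (IrrCharacter (Subgroup.centralizer (Q : Set G)))} (hle : LEIdx 2 M ⟨Q, f⟩ a) :
    IsPBlock M f ∧ Q ≤ a.1 ∧ a.1 ≤ Subgroup.centralizer (Q : Set G) ∧
      IsDefectGroup 2 M f (a.1.subgroupOf (Subgroup.centralizer (Q : Set G))) ∧
      Q.subgroupOf (Subgroup.centralizer (Q : Set G)) ≤ Subgroup.center _ ∧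
      Q.subgroupOf (Subgroup.centralizer (Q : Set G)) ≤ a.1.subgroupOf (Subgroup.centralizer (Q : Set G)) ∧
      IsInducedBlock M (Subgroup.centralizer (Q : Set G)) f B := by
  have hQP : Q ≤ a.1 := LEIdx.le hle
  have hPC : a.1 ≤ Subgroup.centralizer (Q : Set G) := fun y hy =>
    Subgroup.mem_centralizer_iff.2 fun q hq => hab q (hQP hq) y hy
  obtain ⟨a', h1, -, h3, -, -, -⟩ := Cfsg.Agent.H645.Watanabe.exists_loc hM hmax hab hle
  have := Fintype.ofFinite (Subgroup.centralizer (Q : Set G))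
  have hD := isDefectGroup_of_isMaximalBrauerPair hM h3
  rw [h1] at hD
  have hpair := LEIdx.isBrauerPair hle hmax.1.1
  have hof : IsBrauerPairOf 2 M B Q f :=
    (Cfsg.Agent.S4658.result 2 M hM a.1 Q a.2 f hmax.1.1 hpair hle B hmax.1.2.1).1 hmax.1
  refine ⟨h3.1.2.1, hQP, hPC, hD, ?_, ?_, (isBrauerPairOf_iff_isInducedBlock hM hmax.1.2.1 hpair.1 hpair.2).1 hof⟩
  · intro x hx
    rw [Subgroup.mem_center_iff]
    intro g
    exact Subtype.ext (Subgroup.mem_centralizer_iff.1 g.2 x (Subgroup.mem_subgroupOf.1 hx)).symm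
  · intro x hx
    exact hQP hx

/-- `D / Q` a four-group: `l(f) ∈ {1, 3}` for the block `f` of `C_G(Q)` below `(D, e)`. -/
theorem rank_pair [Fact (Nat.Prime 2)] (hM : IsPModular 2 M) (hmax : IsMaximalBrauerPair 2 M B a.1 a.2)
    (hab : ∀ x ∈ a.1, ∀ y ∈ a.1, x * y = y * x) {Q : Subgroup G}
    {f : Set (IrrCharacter (Subgroup.centralizer (Q : Set G)))} (hle : LEIdx 2 M ⟨Q, f⟩ a)
    (h4 : Nat.card a.1 = 4 * Nat.card Q) (h2 : ∀ d ∈ a.1, d * d ∈ Q) : blockRank 2 f = 1 ∨ blockRank 2 f = 3 := by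
  obtain ⟨hf, hQP, hPC, hD, hUc, hUD, -⟩ := exists_local hM hmax hab hle
  refine rank_quot hM hf hD hUc hUD ?_ fun d hd => ?_
  · rw [Nat.card_congr (Subgroup.subgroupOfEquivOfLe hPC).toEquiv,
      Nat.card_congr (Subgroup.subgroupOfEquivOfLe (hQP.trans hPC)).toEquiv, h4]
  · exact h2 d hd

end pair

section bound

variable {G : Type u} [Group G] [Finite G] {M : Ideal AlgInt}

/-- S4540 for a subgroup equal to the centralizer. -/
theorem s4540' (hM : IsPModular 2 M) {B : Set (IrrCharacter G)} (hB : IsPBlock M B) {D : Subgroup G}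
    (hD : IsDefectGroup 2 M B D) {z : G} (hzD : z ∈ D) (hzc : ∀ d ∈ D, d * z = z * d) {H : Subgroup G}
    (hH : H = Subgroup.centralizer ({z} : Set G)) {b : Set (IrrCharacter H)} (hb : IsInducedBlock M H b B)
    (hbD : IsDefectGroup 2 M b (D.subgroupOf H)) (hl : blockRank 2 b ≤ 3) :
    Nat.card B ≤ 2 ^ blockDefect 2 B ∧
      (Nat.card B = 2 ^ blockDefect 2 B → ∀ χ ∈ B, blockHeight 2 B (χ : G → ℂ) = 0) := by
  classical
  subst hH
  have h := Cfsg.Agent.S4540.result M hM B hB D hD z hzD hzc b hb hbD hl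
  refine ⟨by have := h.1.trans h.2; omega, fun he => ?_⟩
  have hfin : Finite (IrrCharacter G) := Core.finite_irr
  have := Fintype.ofFinite (IrrCharacter G)
  set S : Set (IrrCharacter G) := {χ | χ ∈ B ∧ 1 ≤ blockHeight 2 B (χ : G → ℂ)} with hS
  have hcard : Nat.card B = Nat.card {χ : IrrCharacter G // χ ∈ B ∧ blockHeight 2 B (χ : G → ℂ) = 0} +
      Nat.card {χ : IrrCharacter G // χ ∈ B ∧ 1 ≤ blockHeight 2 B (χ : G → ℂ)} := by
    rw [Nat.card_eq_fintype_card, Nat.card_eq_fintype_card, Nat.card_eq_fintype_card, Fintype.card_subtype,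
      Fintype.card_subtype, Fintype.card_subtype]
    rw [← Finset.card_union_of_disjoint]
    · congr 1
      ext χ
      simp only [Finset.mem_union, Finset.mem_filter, Finset.mem_univ, true_and]
      constructor
      · intro hχ
        by_cases h0 : blockHeight 2 B (χ : G → ℂ) = 0
        · exact Or.inl ⟨hχ, h0⟩
        · exact Or.inr ⟨hχ, Nat.one_le_iff_ne_zero.2 h0⟩
      · rintro (h0 | h0) <;> exact h0.1
    · rw [Finset.disjoint_left]
      intro χ h1 h2
      have h3 := (Finset.mem_filter.1 h1).2.2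
      have h4 := (Finset.mem_filter.1 h2).2.2
      omega
  have hge : 2 * Nat.card {χ : IrrCharacter G // χ ∈ B ∧ 1 ≤ blockHeight 2 B (χ : G → ℂ)} ≤
      ∑ᶠ χ ∈ S, 2 ^ blockHeight 2 B (χ : G → ℂ) := by
    have h5 : Nat.card {χ : IrrCharacter G // χ ∈ B ∧ 1 ≤ blockHeight 2 B (χ : G → ℂ)} = S.toFinset.card := by
      rw [Set.toFinset_card, ← Nat.card_eq_fintype_card]; rfl
    rw [finsum_mem_eq_toFinset_sum, h5, mul_comm, ← smul_eq_mul, ← Finset.sum_const]
    refine Finset.sum_le_sum fun χ hχ => ?_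
    have h3 := (Set.mem_toFinset.1 hχ).2
    calc 2 = 2 ^ 1 := (pow_one 2).symm
      _ ≤ _ := Nat.pow_le_pow_right (by norm_num) h3
  have h0 : Nat.card {χ : IrrCharacter G // χ ∈ B ∧ 1 ≤ blockHeight 2 B (χ : G → ℂ)} = 0 := by
    have h1 := h.1
    have h2 := h.2
    omega
  intro χ hχ
  by_contra hne
  have h1 := Finite.card_eq_zero_iff.1 h0
  exact h1.false ⟨χ, hχ, Nat.one_le_iff_ne_zero.2 hne⟩

end bound

section parity

variable {G : Type u} [Group G] [Finite G] {M : Ideal AlgInt}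

/-- If all heights are zero in a 2-block of defect `d ≥ 3`, then `8 ∣ k(B)`. -/
theorem eight_dvd (hM : IsPModular 2 M) {B : Set (IrrCharacter G)} (hB : IsPBlock M B) {D : Subgroup G}
    (hD : IsDefectGroup 2 M B D) {d : ℕ} (hd : Nat.card D = 2 ^ d) (h3 : 3 ≤ d)
    (h0 : ∀ χ ∈ B, blockHeight 2 B (χ : G → ℂ) = 0) : 8 ∣ Nat.card B := by
  classical
  have : Fact (Nat.Prime 2) := ⟨Nat.prime_two⟩
  have hMp := isPrime_of_isPModular hM
  have hfin : Finite (IrrCharacter G) := Core.finite_irr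
  have := Fintype.ofFinite (IrrCharacter G)
  set a : ℕ := (Nat.card G).factorization 2 with ha
  set m : ℕ := sInf ((fun χ : IrrCharacter G => (charDegree (χ : G → ℂ)).factorization 2) '' B) with hm
  have hG : Nat.card G ≠ 0 := Nat.card_pos.ne'
  -- the degrees
  have hdef : a - m = d := by
    have h1 := Cfsg.Agent.S0908.result 2 M hM B hB D hD
    rw [hd] at h1
    exact (Nat.pow_right_injective (le_refl 2) h1).symm
  have hma : m = a - d := by
    have h1 : d ≤ a := by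
      rw [← (Nat.Prime.pow_dvd_iff_le_factorization Nat.prime_two hG), ← hd]
      exact Subgroup.card_subgroup_dvd_card D
    omega
  have hfac : ∀ χ ∈ B, (charDegree (χ : G → ℂ)).factorization 2 = a - d := by
    intro χ hχ
    have h1 := h0 χ hχ
    unfold blockHeight at h1
    rw [← hm] at h1
    have h2 : m ≤ (charDegree (χ : G → ℂ)).factorization 2 := Nat.sInf_le ⟨χ, hχ, rfl⟩
    omega
  have hodd : ∀ χ ∈ B, ∃ o : ℕ, charDegree (χ : G → ℂ) = 2 ^ (a - d) * o ∧ o % 2 = 1 := by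
    intro χ hχ
    have h1 := Nat.ordProj_mul_ordCompl_eq_self (charDegree (χ : G → ℂ)) 2
    have h2 := Nat.not_dvd_ordCompl Nat.prime_two (Cfsg.Agent.Blocks.Basic.charDegree_pos χ.2).ne'
    rw [hfac χ hχ] at h1 h2
    exact ⟨_, h1.symm, by omega⟩
  -- the gcd
  let g : ℕ := (Finset.univ.filter (fun χ : IrrCharacter G => χ ∈ B)).gcd (fun χ => charDegree (χ : G → ℂ))
  obtain ⟨-, v, -, -, -, hv⟩ := Cfsg.Agent.S4641.result 2 M hM B hB D hD a d rfl hd g
    (fun χ hχ => Finset.gcd_dvd (Finset.mem_filter.2 ⟨Finset.mem_univ _, hχ⟩))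
    (fun g' hg' => Finset.dvd_gcd fun χ hχ => hg' χ (Finset.mem_filter.1 hχ).2)
  rw [finsum_mem_eq_toFinset_sum] at hv
  choose! o ho1 ho2 using hodd
  have hsum : ∑ χ ∈ B.toFinset, charDegree (χ : G → ℂ) ^ 2 =
      2 ^ (2 * (a - d)) * ∑ χ ∈ B.toFinset, o χ ^ 2 := by
    rw [Finset.mul_sum]
    refine Finset.sum_congr rfl fun χ hχ => ?_
    rw [ho1 χ (Set.mem_toFinset.1 hχ), mul_pow, ← pow_mul, mul_comm (a - d) 2]
  have hda : d ≤ a := by
    rw [← (Nat.Prime.pow_dvd_iff_le_factorization Nat.prime_two hG), ← hd]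
    exact Subgroup.card_subgroup_dvd_card D
  have hpow : (2 : ℕ) ^ (2 * a - d) = 2 ^ (2 * (a - d)) * 2 ^ d := by
    rw [← pow_add]
    congr 1
    omega
  rw [hsum, hpow, mul_assoc, mul_assoc] at hv
  have h1 := Nat.eq_of_mul_eq_mul_left (pow_pos (by norm_num) _) hv
  have h8 : 8 ∣ ∑ χ ∈ B.toFinset, o χ ^ 2 := by
    rw [h1]
    exact Dvd.dvd.mul_right ((show (8 : ℕ) = 2 ^ 3 by norm_num) ▸ pow_dvd_pow 2 h3) _
  have hmod : (∑ χ ∈ B.toFinset, o χ ^ 2) % 8 = (∑ χ ∈ B.toFinset, 1) % 8 := by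
    refine Finset.sum_nat_mod _ _ _ |>.trans ?_ |>.trans (Finset.sum_nat_mod _ _ _).symm
    congr 1
    refine Finset.sum_congr rfl fun χ hχ => ?_
    have h2 := ho2 χ (Set.mem_toFinset.1 hχ)
    have h4 : o χ % 8 = 1 ∨ o χ % 8 = 3 ∨ o χ % 8 = 5 ∨ o χ % 8 = 7 := by omega
    rw [Nat.pow_mod]
    rcases h4 with h4 | h4 | h4 | h4 <;> rw [h4]
  rw [Finset.sum_const, smul_eq_mul, mul_one, Set.toFinset_card, ← Nat.card_eq_fintype_card] at hmod
  omega

end parity

section formula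

variable {G : Type u} [Group G] [Finite G] {M : Ideal AlgInt}

theorem card_mul_relIndex {Y : Type*} [Group Y] {H K : Subgroup Y} (h : H ≤ K) :
    Nat.card H * H.relIndex K = Nat.card K := by
  have h1 := (H.subgroupOf K).card_mul_index
  rwa [Nat.card_congr (Subgroup.subgroupOfEquivOfLe h).toEquiv] at h1

theorem comm_of_inv {Y : Type*} [Group Y] {D : Subgroup Y} (h : ∀ d ∈ D, d * d = 1) :
    ∀ x ∈ D, ∀ y ∈ D, x * y = y * x := by
  intro x hx y hy
  have h1 := h x hx
  have h2 := h y hy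
  have h3 := h (x * y) (D.mul_mem hx hy)
  have h4 : x⁻¹ = x := inv_eq_of_mul_eq_one_left h1
  have h5 : y⁻¹ = y := inv_eq_of_mul_eq_one_left h2
  have h6 : (x * y)⁻¹ = x * y := inv_eq_of_mul_eq_one_left h3
  rw [← h6, mul_inv_rev, h4, h5]

/-- Brauer's formula for `k(B)`, abelian defect group, in natural numbers. -/
theorem card_formula [Fintype G] [M.IsPrime] [Fact (Nat.Prime 2)] (hM : IsPModular 2 M) {B : Set (IrrCharacter G)}
    {a : BrauerPairIdx G} (hmax : IsMaximalBrauerPair 2 M B a.1 a.2)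
    (hab : ∀ x ∈ a.1, ∀ y ∈ a.1, x * y = y * x) [Fintype a.1] :
    ∃ (e : ℕ) (c : a.1 → ℕ), Odd e ∧ (∀ v, Odd (c v)) ∧ c 1 = e ∧
      Nat.card B * e = ∑ v : a.1, c v * blockRank 2 (bP 2 M a (v : G)).2 := by
  set C : Subgroup G := Subgroup.centralizer (a.1 : Set G) with hC
  have hCT : C ≤ stab a := Cfsg.Agent.H608.F5.centralizer_le_stab hM hmax
  have hCv : ∀ v : a.1, C ≤ stab a ⊓ Subgroup.centralizer ({(v : G)} : Set G) := fun v =>
    le_inf hCT (Subgroup.centralizer_le (Set.singleton_subset_iff.2 v.2))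
  have hnd := Cfsg.Agent.H645.TraceForm.not_dvd_relIndex_stab hM hmax hab
  have hodd : Odd (C.relIndex (stab a)) := by
    rwa [← Nat.not_even_iff_odd, even_iff_two_dvd]
  refine ⟨C.relIndex (stab a), fun v => C.relIndex (stab a ⊓ Subgroup.centralizer ({(v : G)} : Set G)), hodd,
    fun v => ?_, ?_, ?_⟩
  · exact hodd.of_dvd_nat (Dvd.intro _ (Subgroup.relIndex_mul_relIndex _ _ _ (hCv v) inf_le_left))
  · show C.relIndex (stab a ⊓ Subgroup.centralizer ({((1 : a.1) : G)} : Set G)) = _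
    have h1 : Subgroup.centralizer ({((1 : a.1) : G)} : Set G) = ⊤ := by
      rw [eq_top_iff]
      intro g _
      rw [Subgroup.mem_centralizer_singleton_iff, Subgroup.coe_one, mul_one, one_mul]
    rw [h1, inf_top_eq]
  · have h1 := Cfsg.Agent.H645.TraceForm.card_eq hM hmax (ctrl_of_abelian hM hmax hab)
    have hC0 : (Nat.card C : ℂ) ≠ 0 := by exact_mod_cast Nat.card_pos.ne'
    have hS0 : (Nat.card (stab a) : ℂ) ≠ 0 := by exact_mod_cast Nat.card_pos.ne'
    have h2 : (Nat.card (stab a) : ℂ) * Nat.card B = ∑ v : a.1,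
        ((Nat.card (stab a ⊓ Subgroup.centralizer ({(v : G)} : Set G) : Subgroup G) : ℂ) *
          blockRank 2 (bP 2 M a (v : G)).2) := by
      rw [h1, mul_inv_cancel_left₀ hS0]
    rw [← card_mul_relIndex hCT] at h2
    have h3 : ∀ v : a.1, (Nat.card (stab a ⊓ Subgroup.centralizer ({(v : G)} : Set G) : Subgroup G) : ℂ) =
        Nat.card C * C.relIndex (stab a ⊓ Subgroup.centralizer ({(v : G)} : Set G)) := fun v => by
      rw [← card_mul_relIndex (hCv v)]; push_cast; rfl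
    rw [Finset.sum_congr rfl fun v _ => by rw [h3 v, mul_assoc], ← Finset.mul_sum] at h2
    push_cast at h2
    rw [mul_assoc] at h2
    have h4 := mul_left_cancel₀ hC0 h2
    rw [mul_comm] at h4
    exact_mod_cast h4

end formula

section main

variable {G : Type u} [Group G] [Finite G] {M : Ideal AlgInt}

/-- A local block of rank at most three bounds `k(B)`. -/
theorem bound [Fintype G] [M.IsPrime] [Fact (Nat.Prime 2)] (hM : IsPModular 2 M) {B : Set (IrrCharacter G)}
    {a : BrauerPairIdx G} (hmax : IsMaximalBrauerPair 2 M B a.1 a.2)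
    (hab : ∀ x ∈ a.1, ∀ y ∈ a.1, x * y = y * x) {v : G} (hv : v ∈ a.1)
    (hl : blockRank 2 (bP 2 M a v).2 ≤ 3) : Nat.card B ≤ 2 ^ blockDefect 2 B ∧
      (Nat.card B = 2 ^ blockDefect 2 B → ∀ χ ∈ B, blockHeight 2 B (χ : G → ℂ) = 0) := by
  obtain ⟨h1, h2⟩ := bP_spec hM hmax.1.1 hv
  revert hl h2 h1
  generalize bP 2 M a v = b
  obtain ⟨Q, f⟩ := b
  rintro hl hQ hle
  have hQ' : Q = Subgroup.zpowers v := hQ
  subst hQ'
  obtain ⟨-, -, -, hD, -, -, hind⟩ := exists_local hM hmax hab hle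
  exact s4540' hM hmax.1.2.1 (isDefectGroup_of_isMaximalBrauerPair hM hmax) hv (fun d hd => hab d hd v hv)
    (Cfsg.Agent.H652.Ctr.centralizer_zpowers_eq v) hind hD hl

/-- **C1.** -/
theorem C1 (hz : HZ G) (hM : IsPModular 2 M)
    {B : Set (IrrCharacter G)} (hB : IsPBlock M B) {D : Subgroup G} (hD : IsDefectGroup 2 M B D) (h8 : E8 D) :
    Nat.card B = 8 ∧ (blockRank 2 B = 1 ∨ blockRank 2 B = 3 ∨ blockRank 2 B = 5 ∨ blockRank 2 B = 7) := by
  classical
  have : Fact (Nat.Prime 2) := ⟨Nat.prime_two⟩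
  have hMp := isPrime_of_isPModular hM
  have := Fintype.ofFinite G
  have h0 := hz M hM B hB D hD h8
  obtain ⟨e, he⟩ := exists_pair_of_isDefectGroup hM hB hD
  obtain ⟨a, ha⟩ : ∃ a : BrauerPairIdx G, a = ⟨D, e⟩ := ⟨_, rfl⟩
  have hmax : IsMaximalBrauerPair 2 M B a.1 a.2 := by
    rw [ha]; exact isMaximalBrauerPair_of_isDefectGroup hM he hD
  have hD' : a.1 = D := by rw [ha]
  have h8' : E8 a.1 := by rw [hD']; exact h8
  have hab := comm_of_inv h8'.inv
  have := Fintype.ofFinite a.1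
  -- the local ranks
  have hloc : ∀ v : a.1, v ≠ 1 → blockRank 2 (bP 2 M a (v : G)).2 = 1 ∨ blockRank 2 (bP 2 M a (v : G)).2 = 3 := by
    intro v hv
    obtain ⟨h1, h2⟩ := bP_spec hM hmax.1.1 v.2
    refine rank_pair hM hmax hab (Q := (bP 2 M a (v : G)).1) h2 ?_ fun d hd => ?_
    · rw [h1, Nat.card_zpowers, h8'.card]
      have h3 : orderOf (v : G) = 2 := by
        rw [orderOf_eq_prime_iff]
        exact ⟨by rw [pow_two]; exact h8'.inv _ v.2, fun h => hv (Subtype.ext h)⟩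
      rw [h3]
    · rw [h8'.inv d hd]; exact Subgroup.one_mem _
  -- `k(B) = 8`
  have hdef : (2 : ℕ) ^ blockDefect 2 B = 8 := by
    rw [← Cfsg.Agent.S0908.result 2 M hM B hB D hD, h8.card]
  obtain ⟨v, hv⟩ : ∃ v : a.1, v ≠ 1 := by
    by_contra hcon
    push Not at hcon
    have h1 : Nat.card a.1 ≤ 1 :=
      Finite.card_le_one_iff_subsingleton.2 ⟨fun x y => by rw [hcon x, hcon y]⟩
    rw [h8'.card] at h1
    omega
  have hle : Nat.card B ≤ 8 := by
    rw [← hdef]
    exact (bound hM hmax hab v.2 (by rcases hloc v hv with h | h <;> omega)).1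
  have hdvd : 8 ∣ Nat.card B := eight_dvd hM hB hD (d := 3) (by rw [h8.card]; norm_num) le_rfl h0
  have hpos : 0 < Nat.card B := by
    obtain ⟨χ, hχ⟩ := Cfsg.Agent.Blocks.Basic.isPBlock_nonempty hB
    have hfin : Finite (IrrCharacter G) := Core.finite_irr
    exact Nat.card_pos_iff.2 ⟨⟨⟨χ, hχ⟩⟩, inferInstance⟩
  have hk : Nat.card B = 8 := by omega
  refine ⟨hk, ?_⟩
  -- the formula
  obtain ⟨n, c, hn, hc, hc1, hsum⟩ := card_formula hM hmax hab
  have hl1 : blockRank 2 (bP 2 M a ((1 : a.1) : G)).2 = blockRank 2 B := by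
    obtain ⟨h1, h2⟩ := bP_spec hM hmax.1.1 (1 : a.1).2
    revert h1 h2
    generalize bP 2 M a ((1 : a.1) : G) = b
    obtain ⟨Q, f⟩ := b
    rintro hQ hle
    have hpair := LEIdx.isBrauerPair hle hmax.1.1
    refine Cfsg.Agent.H645.Watanabe.rank_of_bot hM ?_ ((Cfsg.Agent.S4658.result 2 M hM a.1 Q a.2 f hmax.1.1 hpair hle B
      hmax.1.2.1).1 hmax.1)
    have hQ' : Q = Subgroup.zpowers (1 : G) := hQ
    show Subgroup.centralizer (Q : Set G) = ⊤
    rw [hQ', Cfsg.Agent.H652.Ctr.centralizer_zpowers_eq, eq_top_iff]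
    intro g _
    rw [Subgroup.mem_centralizer_singleton_iff, mul_one, one_mul]
  rw [← Finset.add_sum_erase _ _ (Finset.mem_univ (1 : a.1)), hc1, hl1, hk] at hsum
  have hcard : (Finset.univ.erase (1 : a.1)).card = 7 := by
    rw [Finset.card_erase_of_mem (Finset.mem_univ _), Finset.card_univ, ← Nat.card_eq_fintype_card, h8'.card]
  have hpar : (∑ v ∈ Finset.univ.erase (1 : a.1), c v * blockRank 2 (bP 2 M a (v : G)).2) % 2 = 1 := by
    rw [Finset.sum_nat_mod]
    have h1 : ∀ v ∈ Finset.univ.erase (1 : a.1), (c v * blockRank 2 (bP 2 M a (v : G)).2) % 2 = 1 := by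
      intro v hv
      rw [← Nat.odd_iff]
      refine (hc v).mul ?_
      rcases hloc v (Finset.ne_of_mem_erase hv) with h | h <;> rw [h] <;> decide
    rw [Finset.sum_congr rfl h1, Finset.sum_const, hcard, smul_eq_mul]
  have hne : 0 < ∑ v ∈ Finset.univ.erase (1 : a.1), c v * blockRank 2 (bP 2 M a (v : G)).2 := by omega
  obtain ⟨j, hj⟩ := hn
  have hlt : blockRank 2 B < 8 := by
    by_contra hcon
    push Not at hcon
    have := Nat.mul_le_mul_left n hcon
    omega
  have hoddl : blockRank 2 B % 2 = 1 := by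
    have h1 : (n * blockRank 2 B) % 2 = 1 := by omega
    rw [Nat.mul_mod] at h1
    rcases Nat.mod_two_eq_zero_or_one (blockRank 2 B) with h2 | h2
    · rw [h2, mul_zero] at h1; omega
    · exact h2
  omega

end main

end Cfsg.Agent.H608.KKL
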