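import Mathlib
import Cfsg.Agent.H645.Watanabe
import Cfsg.Agent.H658.Domin
import Cfsg.Agent.H608.F5Ctrl
import Cfsg.Agent.H650.StarDat

/-!
# Characters of a block over the characters of a central `p`-subgroup

`f` a `p`-block of `G` with abelian defect group `D`, `u ∈ D` central of order `p^n`, `U = ⟨u⟩`:

* `star_apply_central`: the values of the star construction at `u`;
* `card_ge`: `p^n k(f̄) ≤ k(f)` for the dominated block `f̄ = defl U f`, if some character of `D` is faithful on `U`.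
-/

set_option autoImplicit false
set_option linter.unusedSectionVars false

open Cfsg

namespace Cfsg.Agent.H608.KKL

open Cfsg.Agent.Blocks.Basic Cfsg.Agent.Blocks.Local Cfsg.Agent.Blocks Cfsg.Agent.Characters
open Cfsg.Agent.H649 Cfsg.Agent.H651 Cfsg.Agent.H650
open Cfsg.Agent.H645.FusCount (stab mem_stab ctrl_of_abelian)
open Cfsg.Agent.H644 (isMaximalBrauerPair_of_isDefectGroup isDefectGroup_of_isMaximalBrauerPair)
open Cfsg.Agent.H644.CentralQuot (defl infl infl_injective)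

universe u

variable {G : Type u} [Group G] [Finite G] {p : ℕ} [Fact p.Prime] {M : Ideal AlgInt}
  {B : Set (IrrCharacter G)} {a : BrauerPairIdx G}

/-- The value at a central element. -/
theorem star_apply_central (hM : IsPModular p M) (hmax : IsMaximalBrauerPair p M B a.1 a.2)
    {η : G → ℂ} (hη : IsStable p M a η) {χ : IrrCharacter G} (hχ : χ ∈ B) {u : G} (hu : u ∈ a.1)
    (huc : ∀ g : G, g * u = u * g) : star p M a η (χ : G → ℂ) u = η u * (χ : G → ℂ) u := by
  have hord : ∃ k : ℕ, orderOf u = p ^ k := by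
    obtain ⟨k, hk⟩ := IsPGroup.iff_orderOf.1 hmax.1.1.1 ⟨u, hu⟩
    exact ⟨k, by rw [← hk, Subgroup.orderOf_mk]⟩
  have hc := irr_isClassFunction χ.2
  have hs' : ¬ p ∣ orderOf (1 : Cz u) := by
    rw [orderOf_one, Nat.dvd_one]
    exact (Fact.out : p.Prime).ne_one
  have h1 := starW_apply hM (etaW p M a η) hc (u := u) hord hs'
  have h2 := starW_apply hM (fun _ _ => η u) hc (u := u) hord hs'
  rw [Subgroup.coe_one, mul_one] at h1 h2
  have h3 : starW p M (etaW p M a η) (χ : G → ℂ) u = starW p M (fun _ _ => η u) (χ : G → ℂ) u := by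
    rw [h1, h2]
    refine wSum_congr hM fun f hf => ?_
    by_cases h4 : IsBrauerPairOf p M B (Subgroup.zpowers u) f
    · left
      obtain ⟨x, -, hx⟩ := exists_etaW_eq hM hmax h4
      rw [hx _ hη, huc, mul_inv_cancel_right]
    · exact Or.inr (blockPart_secFun_eq_zero hM hmax.1.2.1 hχ hord hf h4 hs')
  have h5 := congrFun (star_const hM hmax (η u) hχ) u
  have h6 : star p M a (fun _ => η u) (χ : G → ℂ) = starW p M (fun _ _ => η u) (χ : G → ℂ) := by
    refine starW_congr_of_mem hM hmax.1.2.1 hχ fun v _ f hf => ?_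
    obtain ⟨x, -, hx⟩ := exists_etaW_eq hM hmax hf
    exact hx _ (isStable_const (η u))
  rw [h6] at h5
  exact h3.trans h5

/-- An invariant linear character is stable, for abelian `D`. -/
theorem isStable_of_inv (hM : IsPModular p M) (hmax : IsMaximalBrauerPair p M B a.1 a.2)
    (hab : ∀ x ∈ a.1, ∀ y ∈ a.1, x * y = y * x) (l : a.1 →* ℂˣ)
    (hl : ∀ (s : stab a) (v : a.1), l (H608.F5.act a s v) = l v) : IsStable p M a (ext0 a.1 l) := by
  have := isPrime_of_isPModular hM
  have := Fintype.ofFinite G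
  intro u x b hu hb h1 h2
  obtain ⟨y, hy, hxy⟩ := (ctrl_of_abelian hM hmax hab).fus u x b hu hb h1 h2
  rw [hxy]
  have h3 : y * u * y⁻¹ ∈ a.1 := (ctrl_of_abelian hM hmax hab).conj_mem hy hu
  rw [ext0_of_mem _ hu, ext0_of_mem _ h3]
  congr 1
  exact hl ⟨y, hy⟩ ⟨u, hu⟩

/-- **Counting over the characters of a central subgroup.** -/
theorem card_ge (hM : IsPModular p M) (hmax : IsMaximalBrauerPair p M B a.1 a.2)
    (hab : ∀ x ∈ a.1, ∀ y ∈ a.1, x * y = y * x) {u : G} (hu : u ∈ a.1) (huc : ∀ g : G, g * u = u * g)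
    {n : ℕ} (hn : orderOf u = p ^ n) [(Subgroup.zpowers u).Normal] :
    p ^ n * Nat.card (defl (Subgroup.zpowers u) B) ≤ Nat.card B := by
  classical
  have := isPrime_of_isPModular hM
  have := Fintype.ofFinite G
  have hpr : p.Prime := Fact.out
  -- a linear character of `D` faithful on `⟨u⟩`
  let _ : CommGroup a.1 := { (inferInstance : Group a.1) with
    mul_comm := fun x y => Subtype.ext (hab x x.2 y y.2) }
  obtain ⟨μ, hμ⟩ : ∃ μ : a.1 →* ℂˣ, orderOf (μ ⟨u, hu⟩) = p ^ n := by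
    cases n with
    | zero => exact ⟨1, by rw [MonoidHom.one_apply, orderOf_one, pow_zero]⟩
    | succ k =>
      have hne : (⟨u, hu⟩ : a.1) ^ p ^ k ≠ 1 := by
        intro h1
        have h2 := orderOf_dvd_of_pow_eq_one h1
        rw [Subgroup.orderOf_mk, hn] at h2
        have h3 := Nat.le_of_dvd (pow_pos hpr.pos _) h2
        exact absurd (Nat.pow_lt_pow_right hpr.one_lt (Nat.lt_succ_self k)) (not_lt.2 h3)
      obtain ⟨φ, hφ⟩ := CommGroup.exists_apply_ne_one_of_hasEnoughRootsOfUnity a.1 ℂ hne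
      refine ⟨φ, orderOf_eq_prime_pow ?_ ?_⟩
      · rwa [← map_pow]
      · have h1 : (⟨u, hu⟩ : a.1) ^ p ^ (k + 1) = 1 := by
          rw [← hn, ← Subgroup.orderOf_mk (H := a.1) u hu]
          exact pow_orderOf_eq_one _
        rw [← map_pow, h1, map_one]
  obtain ⟨l, m, hm, hlinv, hlfix⟩ := H608.F5.exists_stable_hom hM hmax μ
  have hlu : orderOf (l ⟨u, hu⟩) = p ^ n := by
    rw [hlfix ⟨u, hu⟩ fun s => Subtype.ext (by
      rw [H608.F5.act_coe]
      show (s : G) * u * (s : G)⁻¹ = u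
      rw [huc, mul_inv_cancel_right]), Nat.Coprime.orderOf_pow, hμ]
    rw [hμ]
    exact Nat.Coprime.pow_left _ ((Nat.Prime.coprime_iff_not_dvd hpr).2 hm)
  -- the powers of `l`
  have hst : ∀ i : ℕ, IsStable p M a (ext0 a.1 (l ^ i)) := fun i =>
    isStable_of_inv hM hmax hab _ fun s v => by
      rw [MonoidHom.pow_apply, MonoidHom.pow_apply, hlinv]
  have hgen : ∀ (i : ℕ) (χ : IrrCharacter G), χ ∈ B →
      IsGeneralizedCharacter G (star p M a (ext0 a.1 (l ^ i)) (χ : G → ℂ)) := fun i χ _ =>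
    star_isGeneralizedCharacter hM hmax (isGeneralizedCharacter_ext0 _) (hst i) (Core.isIrr_isCharacter χ.2)
  have hirr : ∀ (i : ℕ) (χ : IrrCharacter G), χ ∈ B →
      IsIrrCharacter G (star p M a (ext0 a.1 (l ^ i)) (χ : G → ℂ)) := fun i χ hχ =>
    star_isIrr hM hmax (hst i) (fun _ hg => ext0_mul_conj _ hg) (ext0_apply_one _) hχ (hgen i χ hχ)
  have hmem : ∀ (i : ℕ) (χ : IrrCharacter G) (hχ : χ ∈ B),
      (⟨star p M a (ext0 a.1 (l ^ i)) (χ : G → ℂ), hirr i χ hχ⟩ : IrrCharacter G) ∈ B := fun i χ hχ =>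
    star_mem hM hmax hχ (hirr i χ hχ)
  have hone : ∀ (i : ℕ) (χ : IrrCharacter G), χ ∈ B →
      star p M a (ext0 a.1 (l ^ i)) (χ : G → ℂ) 1 = (χ : G → ℂ) 1 := fun i χ hχ => by
    rw [star_apply_reg hM hmax (hst i) hχ (by rw [orderOf_one, Nat.dvd_one]; exact hpr.ne_one), ext0_apply_one,
      one_mul]
  -- the injection
  let Φ : Fin (p ^ n) × defl (Subgroup.zpowers u) B → B := fun s =>
    ⟨⟨star p M a (ext0 a.1 (l ^ (s.1 : ℕ))) (infl (Subgroup.zpowers u) s.2.1 : G → ℂ), hirr s.1 _ s.2.2⟩,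
      hmem s.1 _ s.2.2⟩
  have hΦ : Function.Injective Φ := by
    rintro ⟨i, θ, hθ⟩ ⟨j, ψ, hψ⟩ he
    have he' : star p M a (ext0 a.1 (l ^ (i : ℕ))) (infl (Subgroup.zpowers u) θ : G → ℂ) =
        star p M a (ext0 a.1 (l ^ (j : ℕ))) (infl (Subgroup.zpowers u) ψ : G → ℂ) :=
      congrArg (fun s : B => ((s : IrrCharacter G) : G → ℂ)) he
    have h1 := congrFun he' 1
    rw [hone i _ hθ, hone j _ hψ] at h1
    have h2 := congrFun he' u
    rw [star_apply_central hM hmax (hst i) hθ hu huc, star_apply_central hM hmax (hst j) hψ hu huc] at h2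
    have h3 : ∀ θ : IrrCharacter (G ⧸ Subgroup.zpowers u),
        (infl (Subgroup.zpowers u) θ : G → ℂ) u = (infl (Subgroup.zpowers u) θ : G → ℂ) 1 := by
      intro θ
      show (θ : (G ⧸ Subgroup.zpowers u) → ℂ) (QuotientGroup.mk u) =
        (θ : (G ⧸ Subgroup.zpowers u) → ℂ) (QuotientGroup.mk 1)
      exact congrArg (θ : (G ⧸ Subgroup.zpowers u) → ℂ) ((QuotientGroup.eq_one_iff u).2 (Subgroup.mem_zpowers u))
    rw [h3, h3, h1] at h2
    have h4 : (infl (Subgroup.zpowers u) ψ : G → ℂ) 1 ≠ 0 := Core.isIrr_apply_one_ne_zero (infl (Subgroup.zpowers u) ψ).2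
    have h5 := mul_right_cancel₀ h4 h2
    rw [ext0_of_mem _ hu, ext0_of_mem _ hu, MonoidHom.pow_apply, MonoidHom.pow_apply] at h5
    have h6 := Units.ext h5
    have h7 : (i : ℕ) = j := by
      have h8 := pow_injOn_Iio_orderOf (x := l ⟨u, hu⟩) (x₁ := (i : ℕ)) (x₂ := (j : ℕ))
        (by rw [hlu]; exact i.2) (by rw [hlu]; exact j.2) h6
      exact h8
    have h8 : i = j := Fin.ext h7
    subst h8
    have h9 := classInner_star_self hM hmax (hst i) (fun _ hg => ext0_mul_conj _ hg) (χ := infl (Subgroup.zpowers u) θ)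
      (ψ := infl (Subgroup.zpowers u) ψ) hθ
    have h10 : θ = ψ := by
      by_contra hne
      have h11 : classInner (infl (Subgroup.zpowers u) θ : G → ℂ) (infl (Subgroup.zpowers u) ψ : G → ℂ) = 0 :=
        Core.classInner_irr_ne (infl _ θ).2 (infl _ ψ).2 fun h => hne (infl_injective _ (Subtype.ext h))
      rw [h11, ← he', Core.classInner_irr_self (hirr i _ hθ)] at h9
      exact one_ne_zero h9
    subst h10
    rfl
  have hfin : Finite (IrrCharacter G) := Core.finite_irr
  have h1 := Nat.card_le_card_of_injective Φ hΦ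
  rwa [Nat.card_prod, Nat.card_eq_fintype_card, Fintype.card_fin] at h1

end Cfsg.Agent.H608.KKL
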