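import Mathlib
import Cfsg.Agent.H608.KKL.C1
import Cfsg.Agent.H608.KKL.Star
import Cfsg.Agent.H608.F5Loc

/-!
# S4546, task C2: S4546 from the case `D = 2^3`

* `Sh D n`: the facts about `D ≅ C_(2^n) × 2^3` that are used;
* `exists_fixed`: an element of order `2^n` of `D` fixed by the stabilizer of the maximal pair;
* `C2`.
-/

set_option autoImplicit false
set_option linter.unusedSectionVars false

open Cfsg

namespace Cfsg.Agent.H608.KKL

open Cfsg.Agent.Blocks.Local Cfsg.Agent.Characters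
open Cfsg.Agent.H649 Cfsg.Agent.H651 Cfsg.Agent.H652.DoubleCount
open Cfsg.Agent.H645.FusCount (stab mem_stab ctrl_of_abelian)
open Cfsg.Agent.H644 (isMaximalBrauerPair_of_isDefectGroup isDefectGroup_of_isMaximalBrauerPair)
open Cfsg.Agent.H644.CentralQuot (defl blockRank_defl isPBlock_defl)
open Cfsg.Agent.H613.KKL

universe u

/-! ### The group `C_(2^n) × 2^3` -/

section grp

variable {n : ℕ}

/-- additive version -/
abbrev Ad (n : ℕ) := ZMod (2 ^ n) × ZMod 2 × ZMod 2 × ZMod 2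

theorem ad_even (k : ℕ) (x : Ad n) : (2 * k) • x = ((2 * k) • x.1, 0, 0, 0) := by
  have h : ∀ y : ZMod 2, (2 * k) • y = 0 := fun y => by
    rw [mul_comm, mul_smul]
    have : (2 : ℕ) • y = 0 := by revert y; decide
    rw [this, smul_zero]
  obtain ⟨x1, x2, x3, x4⟩ := x
  show ((2 * k) • x1, (2 * k) • x2, (2 * k) • x3, (2 * k) • x4) = _
  rw [h, h, h]

theorem ad_exp (hn : 2 ≤ n) (x : Ad n) : (2 ^ n) • x = 0 := by
  obtain ⟨m, rfl⟩ : ∃ m, n = m + 1 := ⟨n - 1, by omega⟩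
  have h := ad_even (n := m + 1) (2 ^ m) x
  rw [← pow_succ'] at h
  rw [h, nsmul_eq_mul]
  have : ((2 ^ (m + 1) : ℕ) : ZMod (2 ^ (m + 1))) = 0 := ZMod.natCast_self _
  rw [this, zero_mul]
  rfl

theorem ad_half (hn : 2 ≤ n) (x : Ad n) :
    ((2 : ℕ) ^ (n - 1)) • x = 0 ∧ x.1.val % 2 = 0 ∨
      ((2 : ℕ) ^ (n - 1)) • x = (((2 ^ (n - 1) : ℕ) : ZMod (2 ^ n)), 0, 0, 0) ∧ x.1.val % 2 = 1 := by
  obtain ⟨m, rfl⟩ : ∃ m, n = m + 2 := ⟨n - 2, by omega⟩
  have h := ad_even (n := m + 2) (2 ^ m) x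
  rw [← pow_succ'] at h
  have hm : m + 2 - 1 = m + 1 := by omega
  rw [hm, h]
  have hx : x.1 = ((x.1.val : ℕ) : ZMod (2 ^ (m + 2))) := (ZMod.natCast_zmod_val x.1).symm
  have h1 : ((2 : ℕ) ^ (m + 1)) • x.1 = ((2 ^ (m + 1) * x.1.val : ℕ) : ZMod (2 ^ (m + 2))) := by
    rw [nsmul_eq_mul, Nat.cast_mul, ← hx]
  rcases Nat.mod_two_eq_zero_or_one x.1.val with h2 | h2
  · left
    refine ⟨?_, h2⟩
    have h3 : ((2 : ℕ) ^ (m + 1)) • x.1 = 0 := by
      rw [h1, ZMod.natCast_eq_zero_iff]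
      have h4 : 2 ^ (m + 1) * 2 ∣ 2 ^ (m + 1) * x.1.val := mul_dvd_mul_left (2 ^ (m + 1)) (Nat.dvd_of_mod_eq_zero h2)
      exact (dvd_of_eq (pow_succ 2 (m + 1))).trans h4
    rw [h3]; rfl
  · right
    refine ⟨?_, h2⟩
    congr 1
    rw [h1]
    obtain ⟨k, hk⟩ : ∃ k, x.1.val = 2 * k + 1 := ⟨x.1.val / 2, by omega⟩
    rw [hk, mul_add, mul_one, Nat.cast_add, ← mul_assoc, ← pow_succ, Nat.cast_mul, ZMod.natCast_self, zero_mul, zero_add]

theorem ad_ne (hn : 2 ≤ n) : (((2 ^ (n - 1) : ℕ) : ZMod (2 ^ n)), (0 : ZMod 2), (0 : ZMod 2), (0 : ZMod 2)) ≠ 0 := by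
  intro h
  have h1 := congrArg Prod.fst h
  have h2 : ((2 ^ (n - 1) : ℕ) : ZMod (2 ^ n)) = 0 := h1
  rw [ZMod.natCast_eq_zero_iff, Nat.pow_dvd_pow_iff_le_right (by norm_num)] at h2
  omega

theorem ad_sq {u : Ad n} (hu : u.1.val % 2 = 1) (d : Ad n) : ∃ k : ℕ, 2 • d = k • u := by
  have hcop : Nat.Coprime u.1.val (2 ^ n) :=
    Nat.Coprime.pow_right _ (Nat.coprime_comm.1 ((Nat.Prime.coprime_iff_not_dvd Nat.prime_two).2 (by omega)))
  let k : ℕ := (d.1 * u.1⁻¹).val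
  have hk : (k : ZMod (2 ^ n)) * u.1 = d.1 := by
    rw [ZMod.natCast_zmod_val, mul_assoc, ZMod.inv_mul_of_unit, mul_one]
    have := (ZMod.unitOfCoprime _ hcop).isUnit
    rwa [ZMod.coe_unitOfCoprime, ZMod.natCast_zmod_val] at this
  refine ⟨2 * k, ?_⟩
  have h1 := ad_even (n := n) 1 d
  rw [mul_one] at h1
  rw [h1, ad_even, mul_smul, nsmul_eq_mul k, hk]

/-- The facts about `D ≅ C_(2^n) × 2^3`. -/
structure Sh {G : Type*} [Group G] (D : Subgroup G) (n : ℕ) : Prop where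
  ab : ∀ x ∈ D, ∀ y ∈ D, x * y = y * x
  card : Nat.card D = 2 ^ (n + 3)
  exp : ∀ x ∈ D, x ^ 2 ^ n = 1
  top : ∃ d ∈ D, d ^ 2 ^ (n - 1) ≠ 1
  half : ∀ x ∈ D, ∀ y ∈ D, x ^ 2 ^ (n - 1) ≠ 1 → y ^ 2 ^ (n - 1) ≠ 1 → x ^ 2 ^ (n - 1) = y ^ 2 ^ (n - 1)
  sq : ∀ u ∈ D, u ^ 2 ^ (n - 1) ≠ 1 → ∀ d ∈ D, d * d ∈ Subgroup.zpowers u

theorem sh_of_equiv {G : Type*} [Group G] {D : Subgroup G} (hn : 2 ≤ n)
    (e : D ≃* Multiplicative (ZMod (2 ^ n) × ZMod 2 × ZMod 2 × ZMod 2)) : Sh D n := by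
  have hpow : ∀ (x : D) (k : ℕ), e x ^ k = 1 ↔ k • (e x).toAdd = 0 := fun x k => by
    rw [← ofAdd_eq_one, ofAdd_nsmul, ofAdd_toAdd]
  have hp1 : ∀ (x : D) (k : ℕ), (x : G) ^ k = 1 ↔ k • (e x).toAdd = 0 := fun x k => by
    rw [← hpow, ← map_pow, map_eq_one_iff e e.injective, ← Subgroup.coe_pow, OneMemClass.coe_eq_one]
  have hodd : ∀ x : D, (x : G) ^ 2 ^ (n - 1) ≠ 1 → ((e x).toAdd).1.val % 2 = 1 := by
    intro x hx
    rcases ad_half hn (e x).toAdd with h | h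
    · exact absurd ((hp1 x _).2 h.1) hx
    · exact h.2
  refine ⟨fun x hx y hy => ?_, ?_, fun x hx => ?_, ?_, fun x hx y hy h1 h2 => ?_, fun u hu hu1 d hd => ?_⟩
  · have h1 : (⟨x, hx⟩ : D) * ⟨y, hy⟩ = ⟨y, hy⟩ * ⟨x, hx⟩ := e.injective (by rw [map_mul, map_mul, mul_comm])
    exact congrArg Subtype.val h1
  · rw [Nat.card_congr e.toEquiv, Nat.card_congr Multiplicative.toAdd, Nat.card_prod, Nat.card_prod, Nat.card_prod,
      Nat.card_zmod, Nat.card_zmod, pow_add]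
    norm_num
  · exact (hp1 ⟨x, hx⟩ _).2 (ad_exp hn _)
  · let a : Ad n := (1, 0, 0, 0)
    let d : D := e.symm (Multiplicative.ofAdd a)
    refine ⟨d, d.2, fun h => ?_⟩
    rw [hp1] at h
    have h1 : (e d).toAdd = a := by
      show (e (e.symm (Multiplicative.ofAdd a))).toAdd = a
      rw [MulEquiv.apply_symm_apply, toAdd_ofAdd]
    rw [h1] at h
    rcases ad_half hn a with h2 | h2
    · have h3 := h2.2
      have h4 : a.1.val = 1 := by
        have : Fact (1 < 2 ^ n) := ⟨Nat.one_lt_pow (by omega) (by norm_num)⟩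
        exact ZMod.val_one (2 ^ n)
      rw [h4] at h3
      omega
    · rw [h2.1] at h
      exact ad_ne hn h
  · have h3 := hodd ⟨x, hx⟩ h1
    have h4 := hodd ⟨y, hy⟩ h2
    have h5 : (2 ^ (n - 1)) • (e ⟨x, hx⟩).toAdd = (2 ^ (n - 1)) • (e ⟨y, hy⟩).toAdd := by
      rcases ad_half hn (e ⟨x, hx⟩).toAdd with h | h
      · omega
      rcases ad_half hn (e ⟨y, hy⟩).toAdd with h' | h'
      · omega
      rw [h.1, h'.1]
    have h6 : (⟨x, hx⟩ : D) ^ 2 ^ (n - 1) = ⟨y, hy⟩ ^ 2 ^ (n - 1) := by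
      apply e.injective
      rw [map_pow, map_pow]
      apply Multiplicative.toAdd.injective
      rw [toAdd_pow, toAdd_pow]
      exact h5
    exact congrArg Subtype.val h6
  · obtain ⟨k, hk⟩ := ad_sq (hodd ⟨u, hu⟩ hu1) (e ⟨d, hd⟩).toAdd
    have h6 : (⟨d, hd⟩ : D) ^ 2 = ⟨u, hu⟩ ^ k := by
      apply e.injective
      rw [map_pow, map_pow]
      apply Multiplicative.toAdd.injective
      rw [toAdd_pow, toAdd_pow]
      exact hk
    have h7 : d ^ 2 = u ^ k := congrArg Subtype.val h6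
    rw [← pow_two, h7]
    exact Subgroup.pow_mem _ (Subgroup.mem_zpowers u) k

theorem Sh.orderOf {G : Type*} [Group G] {D : Subgroup G} (h : Sh D n) (hn : 2 ≤ n) {u : G} (hu : u ∈ D)
    (hu1 : u ^ 2 ^ (n - 1) ≠ 1) : orderOf u = 2 ^ n := by
  have : Fact (Nat.Prime 2) := ⟨Nat.prime_two⟩
  obtain ⟨m, rfl⟩ : ∃ m, n = m + 1 := ⟨n - 1, by omega⟩
  exact orderOf_eq_prime_pow hu1 (h.exp u hu)

end grp

/-! ### The fixed element -/

section fixed

variable {G : Type u} [Group G] [Finite G] {M : Ideal AlgInt} {B : Set (IrrCharacter G)} {a : BrauerPairIdx G} {n : ℕ}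

/-- An element of `D` of order `2^n` fixed by the stabilizer. -/
theorem exists_fixed [Fact (Nat.Prime 2)] (hM : IsPModular 2 M) (hmax : IsMaximalBrauerPair 2 M B a.1 a.2) (hn : 2 ≤ n)
    (hS : Sh a.1 n) : ∃ u ∈ a.1, u ^ 2 ^ (n - 1) ≠ 1 ∧ ∀ t ∈ stab a, t * u * t⁻¹ = u := by
  classical
  have := isPrime_of_isPModular hM
  have := Fintype.ofFinite G
  obtain ⟨d, hd, hd1⟩ := hS.top
  let _ : CommGroup a.1 := { (inferInstance : Group a.1) with
    mul_comm := fun x y => Subtype.ext (hS.ab x x.2 y y.2) }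
  let A : Subgroup (MulAut a.1) := (Cfsg.Agent.H608.F5.act a).range
  have hfin : Finite A := inferInstance
  have := Fintype.ofFinite A
  -- the order of `A` is odd
  have hker : (Cfsg.Agent.H608.F5.act a).ker = (Subgroup.centralizer (a.1 : Set G)).subgroupOf (stab a) := by
    ext s
    rw [MonoidHom.mem_ker, Subgroup.mem_subgroupOf, Subgroup.mem_centralizer_iff]
    constructor
    · intro h v hv
      have h1 := congrArg (fun α : MulAut a.1 => ((α ⟨v, hv⟩ : a.1) : G)) h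
      have h2 : (s : G) * v * (s : G)⁻¹ = v := h1
      calc v * s = (s : G) * v * (s : G)⁻¹ * s := by rw [h2]
        _ = s * v := by group
    · intro h
      ext v
      rw [Cfsg.Agent.H608.F5.act_coe, MulAut.one_apply, ← h v v.2, mul_inv_cancel_right]
  have hoddA : Odd (Nat.card A) := by
    rw [← Subgroup.index_ker, hker]
    have h1 := Cfsg.Agent.H645.TraceForm.not_dvd_relIndex_stab hM hmax hS.ab
    rwa [← Nat.not_even_iff_odd, even_iff_two_dvd]
  let u : a.1 := ∏ α : A, (α : MulAut a.1) ⟨d, hd⟩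
  -- `u` is fixed
  have hfix : ∀ β : A, (β : MulAut a.1) u = u := by
    intro β
    show (β : MulAut a.1) (∏ α : A, (α : MulAut a.1) ⟨d, hd⟩) = _
    rw [map_prod]
    exact Fintype.prod_equiv (Equiv.mulLeft β) _ _ fun α => rfl
  have hpow : u ^ 2 ^ (n - 1) = (⟨d, hd⟩ : a.1) ^ 2 ^ (n - 1) := by
    show (∏ α : A, (α : MulAut a.1) ⟨d, hd⟩) ^ 2 ^ (n - 1) = _
    rw [← Finset.prod_pow]
    have h1 : ∀ α : A, ((α : MulAut a.1) ⟨d, hd⟩) ^ 2 ^ (n - 1) = (⟨d, hd⟩ : a.1) ^ 2 ^ (n - 1) := by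
      intro α
      refine Subtype.ext ?_
      rw [Subgroup.coe_pow, Subgroup.coe_pow]
      refine hS.half _ (SetLike.coe_mem _) _ hd ?_ hd1
      intro h2
      apply hd1
      have h3 : (α : MulAut a.1) ((⟨d, hd⟩ : a.1) ^ 2 ^ (n - 1)) = 1 := by
        rw [map_pow]
        exact Subtype.ext h2
      rw [map_eq_one_iff _ (α : MulAut a.1).injective] at h3
      exact congrArg Subtype.val h3
    rw [Finset.prod_congr rfl fun α _ => h1 α, Finset.prod_const, Finset.card_univ, ← Nat.card_eq_fintype_card]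
    obtain ⟨j, hj⟩ := hoddA
    rw [hj, pow_succ, pow_mul]
    have h2 : ((⟨d, hd⟩ : a.1) ^ 2 ^ (n - 1)) ^ 2 = 1 := by
      rw [← pow_mul, ← pow_succ, Nat.sub_add_cancel (by omega)]
      exact Subtype.ext (hS.exp d hd)
    rw [h2, one_pow, one_mul]
  refine ⟨u, u.2, fun h => hd1 ?_, fun t ht => ?_⟩
  · have h1 := congrArg Subtype.val hpow
    rw [Subgroup.coe_pow, Subgroup.coe_pow] at h1
    rw [← h]
    exact h1.symm
  · have h1 := hfix ⟨Cfsg.Agent.H608.F5.act a ⟨t, ht⟩, ⟨⟨t, ht⟩, rfl⟩⟩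
    exact congrArg Subtype.val h1

/-- `|D / Q|` divides 4: `l(f) ≤ 3`. -/
theorem rank_pair_le [Fintype G] [M.IsPrime] [Fact (Nat.Prime 2)] (hM : IsPModular 2 M)
    (hmax : IsMaximalBrauerPair 2 M B a.1 a.2)
    (hab : ∀ x ∈ a.1, ∀ y ∈ a.1, x * y = y * x) {Q : Subgroup G}
    {f : Set (IrrCharacter (Subgroup.centralizer (Q : Set G)))} (hle : LEIdx 2 M ⟨Q, f⟩ a)
    (h4 : Nat.card a.1 ∣ 4 * Nat.card Q) : blockRank 2 f ≤ 3 := by
  obtain ⟨hf, hQP, hPC, hD, hUc, hUD, -⟩ := exists_local hM hmax hab hle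
  set C := Subgroup.centralizer (Q : Set G) with hC
  set U := Q.subgroupOf C with hU
  have hUn : U.Normal := ⟨fun n hn g => by
    have h1 := Subgroup.mem_center_iff.1 (hUc hn) g
    rw [h1, mul_inv_cancel_right]
    exact hn⟩
  have := Fintype.ofFinite C
  have := Fintype.ofFinite (C ⧸ U)
  have hUp : IsPGroup 2 U := (Cfsg.Agent.H641.isPGroup_of_isDefectGroup hD).to_le hUD
  have h3 := (Cfsg.Agent.H658.isDefectGroup_defl (U := U) hM hUc hUp hf hD).2
  have hb := isPBlock_defl (U := U) hM hUc hUp hf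
  rw [← blockRank_defl hM hUc hUp hf]
  refine Cfsg.Agent.H608.F5.rank_le_three_of_dvd_four hM hb h3 ?_
  rw [← Subgroup.relIndex_ker, QuotientGroup.ker_mk']
  have h5 := card_mul_relIndex hUD
  rw [Nat.card_congr (Subgroup.subgroupOfEquivOfLe hPC).toEquiv,
    Nat.card_congr (Subgroup.subgroupOfEquivOfLe (hQP.trans hPC)).toEquiv] at h5
  rw [← h5, mul_comm 4] at h4
  exact Nat.dvd_of_mul_dvd_mul_left Nat.card_pos h4

end fixed

/-! ### The main theorem -/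

section main

variable {G : Type u} [Group G] [Finite G] {M : Ideal AlgInt} {B : Set (IrrCharacter G)} {a : BrauerPairIdx G} {n : ℕ}

theorem card_ge_local (hz : ∀ (H : Type u) [Group H] [Finite H], HZ H) {C : Type u} [Group C] [Finite C]
    (hM : IsPModular 2 M) {f : Set (IrrCharacter C)} (hf : IsPBlock M f) {D : Subgroup C} (hD : IsDefectGroup 2 M f D)
    (hcard : Nat.card D = 2 ^ (n + 3)) (hab : ∀ x ∈ D, ∀ y ∈ D, x * y = y * x) {u : C} (hu : u ∈ D)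
    (huc : ∀ g : C, g * u = u * g) (hord : orderOf u = 2 ^ n) (hsq : ∀ d ∈ D, d * d ∈ Subgroup.zpowers u) :
    2 ^ (n + 3) ≤ Nat.card f ∧
      (blockRank 2 f = 1 ∨ blockRank 2 f = 3 ∨ blockRank 2 f = 5 ∨ blockRank 2 f = 7) := by
  classical
  have : Fact (Nat.Prime 2) := ⟨Nat.prime_two⟩
  have := isPrime_of_isPModular hM
  have := Fintype.ofFinite C
  have hUc : Subgroup.zpowers u ≤ Subgroup.center C := by
    rw [Subgroup.zpowers_le, Subgroup.mem_center_iff]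
    exact huc
  have hUn : (Subgroup.zpowers u).Normal := ⟨fun x hx g => by
    have h1 := Subgroup.mem_center_iff.1 (hUc hx) g
    rw [h1, mul_inv_cancel_right]
    exact hx⟩
  have := Fintype.ofFinite (C ⧸ Subgroup.zpowers u)
  have hUD : Subgroup.zpowers u ≤ D := by rwa [Subgroup.zpowers_le]
  have hUp : IsPGroup 2 (Subgroup.zpowers u) := (Cfsg.Agent.H641.isPGroup_of_isDefectGroup hD).to_le hUD
  obtain ⟨e, he⟩ := exists_pair_of_isDefectGroup hM hf hD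
  have hmax := isMaximalBrauerPair_of_isDefectGroup hM he hD
  have h1 := card_ge hM (a := ⟨D, e⟩) hmax hab hu huc hord
  have hDf := (Cfsg.Agent.H658.isDefectGroup_defl (U := Subgroup.zpowers u) hM hUc hUp hf hD).2
  have hb := isPBlock_defl (U := Subgroup.zpowers u) hM hUc hUp hf
  have h8 : E8 (D.map (QuotientGroup.mk' (Subgroup.zpowers u))) := by
    constructor
    · rw [← Subgroup.relIndex_ker, QuotientGroup.ker_mk']
      have h5 := card_mul_relIndex hUD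
      rw [Nat.card_zpowers, hord, hcard, pow_add] at h5
      have h6 := Nat.eq_of_mul_eq_mul_left (pow_pos (by norm_num) _) h5
      rw [h6]; norm_num
    · rintro _ ⟨d, hd, rfl⟩
      rw [← map_mul]
      exact (QuotientGroup.eq_one_iff _).2 (hsq d hd)
  have h2 := C1 (hz _) hM hb hDf h8
  rw [h2.1] at h1
  rw [blockRank_defl hM hUc hUp hf] at h2
  refine ⟨?_, h2.2⟩
  rw [pow_add]
  exact h1

/-- **C2.** -/
theorem C2 (hz : ∀ (H : Type u) [Group H] [Finite H], HZ H) {G : Type u} [Group G] [Finite G] (M : Ideal AlgInt)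
    (hM : IsPModular 2 M) (B : Set (IrrCharacter G)) (hB : IsPBlock M B) (D : Subgroup G)
    (hD : IsDefectGroup 2 M B D) (n : ℕ) (hn : 2 ≤ n)
    (hiso : Nonempty (D ≃* Multiplicative (ZMod (2 ^ n) × ZMod 2 × ZMod 2 × ZMod 2))) :
    Nat.card B = 2 ^ (n + 3) ∧ (∀ χ ∈ B, blockHeight 2 B (χ : G → ℂ) = 0) ∧
      (blockRank 2 B = 1 ∨ blockRank 2 B = 3 ∨ blockRank 2 B = 5 ∨ blockRank 2 B = 7) := by
  classical
  have : Fact (Nat.Prime 2) := ⟨Nat.prime_two⟩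
  have hMp := isPrime_of_isPModular hM
  have := Fintype.ofFinite G
  obtain ⟨e, he⟩ := exists_pair_of_isDefectGroup hM hB hD
  obtain ⟨a, ha⟩ : ∃ a : BrauerPairIdx G, a = ⟨D, e⟩ := ⟨_, rfl⟩
  have hmax : IsMaximalBrauerPair 2 M B a.1 a.2 := by
    rw [ha]; exact isMaximalBrauerPair_of_isDefectGroup hM he hD
  have hD' : a.1 = D := by rw [ha]
  have hS : Sh a.1 n := by rw [hD']; exact sh_of_equiv hn hiso.some
  have hab := hS.ab
  obtain ⟨u, hu, hu1, huT⟩ := exists_fixed hM hmax hn hS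
  have hord := hS.orderOf hn hu hu1
  -- Watanabe
  have hw1 := Cfsg.Agent.H645.Watanabe.rank_eq hM hmax hab hu huT
  have hw2 := Cfsg.Agent.H645.Watanabe.card_eq hM hmax hab hu huT
  -- the block at `u`
  have hloc : 2 ^ (n + 3) ≤ Nat.card (bP 2 M a u).2 ∧ (blockRank 2 (bP 2 M a u).2 = 1 ∨ blockRank 2 (bP 2 M a u).2 = 3 ∨
      blockRank 2 (bP 2 M a u).2 = 5 ∨ blockRank 2 (bP 2 M a u).2 = 7) := by
    obtain ⟨h1, h2⟩ := bP_spec hM hmax.1.1 hu
    revert h1 h2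
    generalize bP 2 M a u = b
    obtain ⟨Q, f⟩ := b
    rintro hQ hle
    have hQ' : Q = Subgroup.zpowers u := hQ
    subst hQ'
    obtain ⟨hf, hQP, hPC, hDf, hUc, hUD, -⟩ := exists_local hM hmax hab hle
    have huC : u ∈ Subgroup.centralizer ((Subgroup.zpowers u : Subgroup G) : Set G) := hPC hu
    refine card_ge_local hz hM hf hDf ?_ (fun x hx y hy => Subtype.ext (hab x hx y hy)) (u := ⟨u, huC⟩) hu
      (fun g => Subtype.ext (Subgroup.mem_centralizer_iff.1 g.2 u (Subgroup.mem_zpowers u)).symm) ?_ fun d hd => ?_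
    · rw [Nat.card_congr (Subgroup.subgroupOfEquivOfLe hPC).toEquiv, hS.card]
    · rw [Subgroup.orderOf_mk, hord]
    · obtain ⟨k, hk⟩ := Subgroup.mem_zpowers_iff.1 (hS.sq u hu hu1 d hd)
      exact Subgroup.mem_zpowers_iff.2 ⟨k, Subtype.ext hk⟩
  rw [hw1, hw2] at hloc
  have hdef : (2 : ℕ) ^ blockDefect 2 B = 2 ^ (n + 3) := by
    rw [← Cfsg.Agent.S0908.result 2 M hM B hB D hD, ← hD', hS.card]
  -- a local block of rank at most three
  obtain ⟨v, hv, hvu⟩ : ∃ v ∈ a.1, v ∉ Subgroup.zpowers u := by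
    by_contra hcon
    push Not at hcon
    have h1 := Subgroup.card_le_of_le (show a.1 ≤ Subgroup.zpowers u from hcon)
    rw [hS.card, Nat.card_zpowers, hord] at h1
    exact absurd (Nat.pow_lt_pow_right (by norm_num : 1 < 2) (by omega : n < n + 3)) (not_lt.2 h1)
  have hlv : blockRank 2 (bP 2 M a v).2 ≤ 3 := by
    obtain ⟨h1, h2⟩ := bP_spec hM hmax.1.1 hv
    obtain ⟨b, hb1, hb⟩ := Cfsg.Agent.H645.Watanabe.exists_pair hM hmax.1.1 (Q := (bP 2 M a v).1 ⊔ Subgroup.zpowers u)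
      (sup_le (LEIdx.le h2) (Subgroup.zpowers_le_of_mem hu))
    have := Fintype.ofFinite (Subgroup.centralizer ((bP 2 M a v).1 : Set G))
    rw [← Cfsg.Agent.H645.Watanabe.rank_local hM hmax hab (Q := (bP 2 M a v).1) (f := (bP 2 M a v).2) h2
      (Cfsg.Agent.H645.Watanabe.thm_all hM _ _ rfl) hu huT hb1 hb]
    refine rank_pair_le hM hmax hab (Q := b.1) hb ?_
    rw [hS.card]
    have hbp : IsPGroup 2 b.1 := hmax.1.1.1.to_le (LEIdx.le hb)
    obtain ⟨j, hj⟩ := IsPGroup.iff_card.1 hbp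
    have hlt : Nat.card (Subgroup.zpowers u) < Nat.card b.1 := by
      refine lt_of_le_of_ne (Subgroup.card_le_of_le (by rw [hb1]; exact le_sup_right)) fun he => hvu ?_
      have h3 : Subgroup.zpowers u = b.1 := Subgroup.eq_of_le_of_card_ge (by rw [hb1]; exact le_sup_right) he.ge
      rw [h3, hb1, h1]
      exact Subgroup.mem_sup_left (Subgroup.mem_zpowers v)
    rw [Nat.card_zpowers, hord, hj] at hlt
    have h4 : n < j := (Nat.pow_lt_pow_iff_right (by norm_num)).1 hlt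
    rw [hj, show 4 = 2 ^ 2 by norm_num, ← pow_add]
    exact pow_dvd_pow 2 (by omega)
  have hbd := bound hM hmax hab hv hlv
  rw [hdef] at hbd
  have hk : Nat.card B = 2 ^ (n + 3) := le_antisymm hbd.1 hloc.1
  exact ⟨hk, hbd.2 hk, hloc.2⟩

end main

end Cfsg.Agent.H608.KKL
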